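import Mathlib
set_option linter.all false
/-!
Abstract part: a group of order at most 175560 with certain elements is simple of order 175560.
-/
set_option autoImplicit false

namespace Cfsg.Agent.SporadicB.J1.Crit

/-- a normal subgroup whose order is divisible by a prime `p` with `p² ∤ |G|` contains all elements with `g ^ p = 1` -/
theorem mem_of_pow_prime {G : Type*} [Group G] [Finite G] (N : Subgroup G) [N.Normal] {p : ℕ} (hp : p.Prime)
    (hpN : p ∣ Nat.card N) (hG : ¬ p ^ 2 ∣ Nat.card G) {g : G} (hg : g ^ p = 1) : g ∈ N := by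
  have hidx : ¬ p ∣ N.index := by
    intro h
    apply hG
    rw [pow_two, ← N.card_mul_index]
    exact Nat.mul_dvd_mul hpN h
  rw [← QuotientGroup.eq_one_iff]
  have h1 : ((g : G ⧸ N)) ^ p = 1 := by rw [← QuotientGroup.mk_pow, hg]; rfl
  have h2 : orderOf (g : G ⧸ N) ∣ p := orderOf_dvd_of_pow_eq_one h1
  have h3 : orderOf (g : G ⧸ N) ∣ N.index := orderOf_dvd_natCard _
  rcases (Nat.dvd_prime hp).1 h2 with h | h
  · exact orderOf_eq_one_iff.1 h
  · exact absurd (h ▸ h3) hidx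

theorem dvd_card_of_pow {G : Type*} [Group G] {p : ℕ} (hp : p.Prime) {g : G} (h1 : g ^ p = 1)
    (h2 : g ≠ 1) (N : Subgroup G) (hg : g ∈ N) : p ∣ Nat.card N := by
  have := Fact.mk hp
  have h := orderOf_eq_prime h1 h2
  rw [← h, ← Subgroup.orderOf_mk g hg]
  exact orderOf_dvd_natCard _

/-- the data which force a group of order at most 175560 to be simple of order 175560 -/
structure Data (G : Type*) [Group G] where
  X : G
  Y : G
  hgen : Subgroup.closure {X, Y} = ⊤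
  hX : X ^ 7 = 1
  hX1 : X ≠ 1
  hY : Y ^ 5 = 1
  hY1 : Y ≠ 1
  hc : (X * Y * X⁻¹ * Y⁻¹) ^ 7 = 1
  hc1 : X * Y * X⁻¹ * Y⁻¹ ≠ 1
  g : Fin 4 → G
  c : Fin 4 → G
  k : Fin 4 → ℕ
  hg : ∀ i, g i ^ (![3, 7, 11, 19] i) = 1
  hg1 : ∀ i, g i ≠ 1
  hz : ∀ i, ((g i * (c i * g i * (c i)⁻¹)) ^ k i) ^ 5 = 1
  hz1 : ∀ i, (g i * (c i * g i * (c i)⁻¹)) ^ k i ≠ 1
  e : Fin 8 → G
  he : Function.Injective e
  he0 : e 0 = 1
  hee : ∀ i j, ∃ l, e i * e j = e l
  hei : ∀ i, ∃ l, (e i)⁻¹ = e l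
  hX2 : ∀ i j, X * e i * X⁻¹ = e j → e i = 1

variable {G : Type*} [Group G]

def Data.E (D : Data G) : Subgroup G where
  carrier := Set.range D.e
  mul_mem' := by
    rintro _ _ ⟨i, rfl⟩ ⟨j, rfl⟩
    obtain ⟨l, hl⟩ := D.hee i j
    exact ⟨l, hl.symm⟩
  one_mem' := ⟨0, D.he0⟩
  inv_mem' := by
    rintro _ ⟨i, rfl⟩
    obtain ⟨l, hl⟩ := D.hei i
    exact ⟨l, hl.symm⟩

theorem Data.card_E (D : Data G) : Nat.card D.E = 8 := by
  have : Nat.card (Set.range D.e) = 8 := by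
    rw [← Nat.card_congr (Equiv.ofInjective D.e D.he)]
    simp
  exact this

theorem Data.card_dvd (D : Data G) [Finite G] : 175560 ∣ Nat.card G := by
  have h8 : 8 ∣ Nat.card G := D.card_E ▸ Subgroup.card_subgroup_dvd_card D.E
  have key : ∀ (p : ℕ) (x : G), p.Prime → x ^ p = 1 → x ≠ 1 → p ∣ Nat.card G := by
    intro p x hp h1 h2
    have := dvd_card_of_pow hp h1 h2 ⊤ (Subgroup.mem_top x)
    rwa [Subgroup.card_top] at this
  have h3 : 3 ∣ Nat.card G := key 3 (D.g 0) (by norm_num) (D.hg 0) (D.hg1 0)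
  have h7 : 7 ∣ Nat.card G := key 7 (D.g 1) (by norm_num) (D.hg 1) (D.hg1 1)
  have h11 : 11 ∣ Nat.card G := key 11 (D.g 2) (by norm_num) (D.hg 2) (D.hg1 2)
  have h19 : 19 ∣ Nat.card G := key 19 (D.g 3) (by norm_num) (D.hg 3) (D.hg1 3)
  have h5 : 5 ∣ Nat.card G := key 5 D.Y (by norm_num) D.hY D.hY1
  have a1 : 8 * 3 ∣ Nat.card G := Nat.Coprime.mul_dvd_of_dvd_of_dvd (by norm_num) h8 h3
  have a2 : 8 * 3 * 5 ∣ Nat.card G := Nat.Coprime.mul_dvd_of_dvd_of_dvd (by norm_num) a1 h5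
  have a3 : 8 * 3 * 5 * 7 ∣ Nat.card G := Nat.Coprime.mul_dvd_of_dvd_of_dvd (by norm_num) a2 h7
  have a4 : 8 * 3 * 5 * 7 * 11 ∣ Nat.card G := Nat.Coprime.mul_dvd_of_dvd_of_dvd (by norm_num) a3 h11
  have a5 : 8 * 3 * 5 * 7 * 11 * 19 ∣ Nat.card G := Nat.Coprime.mul_dvd_of_dvd_of_dvd (by norm_num) a4 h19
  simpa using a5

theorem Data.card_eq (D : Data G) [Finite G] (hle : Nat.card G ≤ 175560) : Nat.card G = 175560 :=
  le_antisymm hle (Nat.le_of_dvd Nat.card_pos D.card_dvd)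

theorem Data.top_of_five (D : Data G) [Finite G] (hG : Nat.card G = 175560) (N : Subgroup G) [N.Normal]
    (h : 5 ∣ Nat.card N) : N = ⊤ := by
  have hY : D.Y ∈ N := mem_of_pow_prime N (by norm_num : Nat.Prime 5) h (by rw [hG]; norm_num) D.hY
  have hc : D.X * D.Y * D.X⁻¹ * D.Y⁻¹ ∈ N :=
    N.mul_mem (Subgroup.Normal.conj_mem inferInstance _ hY _) (N.inv_mem hY)
  have h7 : 7 ∣ Nat.card N := dvd_card_of_pow (by norm_num) D.hc D.hc1 N hc
  have hX : D.X ∈ N := mem_of_pow_prime N (by norm_num : Nat.Prime 7) h7 (by rw [hG]; norm_num) D.hX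
  rw [eq_top_iff, ← D.hgen, Subgroup.closure_le]
  intro x hx
  rcases hx with rfl | rfl
  · exact hX
  · exact hY

theorem Data.top_of_odd (D : Data G) [Finite G] (hG : Nat.card G = 175560) (N : Subgroup G) [N.Normal] (i : Fin 4)
    (h : ![3, 7, 11, 19] i ∣ Nat.card N) : N = ⊤ := by
  have hp : Nat.Prime (![3, 7, 11, 19] i) := by fin_cases i <;> norm_num
  have hp2 : ¬ (![3, 7, 11, 19] i) ^ 2 ∣ Nat.card G := by rw [hG]; fin_cases i <;> norm_num
  have hgN : D.g i ∈ N := mem_of_pow_prime N hp h hp2 (D.hg i)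
  refine D.top_of_five hG N (dvd_card_of_pow (by norm_num) (D.hz i) (D.hz1 i) N ?_)
  exact N.pow_mem (N.mul_mem hgN (Subgroup.Normal.conj_mem inferInstance _ hgN _)) _

theorem Data.le_E (D : Data G) [Finite G] (hG : Nat.card G = 175560) (N : Subgroup G) [N.Normal]
    (h : IsPGroup 2 N) : N ≤ D.E := by
  have : Fact (Nat.Prime 2) := ⟨Nat.prime_two⟩
  have hE : IsPGroup 2 D.E := IsPGroup.of_card (n := 3) (by rw [D.card_E]; norm_num)
  have hNE : IsPGroup 2 (N ⊔ D.E : Subgroup G) := IsPGroup.to_sup_of_normal_left h hE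
  obtain ⟨k, hk⟩ := (IsPGroup.iff_card).1 hNE
  have hdvd : 2 ^ k ∣ 175560 := by rw [← hk, ← hG]; exact Subgroup.card_subgroup_dvd_card _
  have hk3 : k ≤ 3 := by
    by_contra hcon
    have h4 : 2 ^ 4 ∣ 175560 := dvd_trans (pow_dvd_pow 2 (by omega)) hdvd
    norm_num at h4
  have hle : Nat.card (N ⊔ D.E : Subgroup G) ≤ Nat.card D.E := by
    rw [hk, D.card_E]
    calc 2 ^ k ≤ 2 ^ 3 := Nat.pow_le_pow_right (by norm_num) hk3
      _ = 8 := by norm_num
  have heq : D.E = N ⊔ D.E := Subgroup.eq_of_le_of_card_ge le_sup_right hle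
  rw [heq]
  exact le_sup_left

theorem Data.bot_of_two (D : Data G) [Finite G] (hG : Nat.card G = 175560) (N : Subgroup G) [N.Normal]
    (h : IsPGroup 2 N) : N = ⊥ := by
  have hle := D.le_E hG N h
  rw [eq_bot_iff]
  intro n hn
  obtain ⟨i, hi⟩ := hle hn
  obtain ⟨j, hj⟩ := hle (Subgroup.Normal.conj_mem (inferInstance : N.Normal) n hn D.X)
  rw [← hi] at hj ⊢
  exact Subgroup.mem_bot.2 (D.hX2 i j hj.symm)

theorem Data.simple (D : Data G) [Finite G] (hle : Nat.card G ≤ 175560) :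
    IsSimpleGroup G ∧ Nat.card G = 175560 := by
  have hG := D.card_eq hle
  refine ⟨?_, hG⟩
  have : Nontrivial G := ⟨⟨D.X, 1, D.hX1⟩⟩
  refine ⟨fun N hN => ?_⟩
  have := hN
  by_cases hodd : 5 ∣ Nat.card N ∨ ∃ i : Fin 4, ![3, 7, 11, 19] i ∣ Nat.card N
  · right
    rcases hodd with h | ⟨i, h⟩
    · exact D.top_of_five hG N h
    · exact D.top_of_odd hG N i h
  · left
    push Not at hodd
    obtain ⟨h5, h'⟩ := hodd
    have h3 : ¬ 3 ∣ Nat.card N := h' 0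
    have h7 : ¬ 7 ∣ Nat.card N := h' 1
    have h11 : ¬ 11 ∣ Nat.card N := h' 2
    have h19 : ¬ 19 ∣ Nat.card N := h' 3
    have hdvd : Nat.card N ∣ 175560 := hG ▸ Subgroup.card_subgroup_dvd_card N
    have hcop : ∀ p, p.Prime → ¬ p ∣ Nat.card N → Nat.Coprime (Nat.card N) p := fun p hp h =>
      ((Nat.Prime.coprime_iff_not_dvd hp).2 h).symm
    have e : (175560 : ℕ) = 8 * 3 * 5 * 7 * 11 * 19 := by norm_num
    rw [e] at hdvd
    have h8 : Nat.card N ∣ 2 ^ 3 := by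
      have b1 := (hcop 19 (by norm_num) h19).dvd_of_dvd_mul_right hdvd
      have b2 := (hcop 11 (by norm_num) h11).dvd_of_dvd_mul_right b1
      have b3 := (hcop 7 (by norm_num) h7).dvd_of_dvd_mul_right b2
      have b4 := (hcop 5 (by norm_num) h5).dvd_of_dvd_mul_right b3
      have b5 := (hcop 3 (by norm_num) h3).dvd_of_dvd_mul_right b4
      simpa using b5
    obtain ⟨k, -, hk⟩ := (Nat.dvd_prime_pow Nat.prime_two).1 h8
    exact D.bot_of_two hG N (IsPGroup.of_card hk)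

end Cfsg.Agent.SporadicB.J1.Crit
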